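import Groth.Agent.Lib.GeomUnib.Prime
import Groth.Agent.Lib.GeomUnib.Criterion
import Groth.Agent.Lib.Olivier.Main
import Groth.Agent.Lib.GrpSchField.TensorDomain
import Groth.Agent.S2691
import Groth.Prelude.Def_Hensel
import Mathlib.RingTheory.Nilpotent.GeometricallyReduced
import Mathlib.RingTheory.LocalProperties.IntegrallyClosed

/-!
# Minimal primes of the strict henselization of a tensor product of henselian rings
-/

set_option autoImplicit false
set_option backward.isDefEq.respectTransparency false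
set_option maxHeartbeats 2000000
set_option synthInstance.maxHeartbeats 200000

universe u

open IsLocalRing TensorProduct

noncomputable section

namespace GrothLib.MinPrimeTensor4

variable {k : Type u} [Field k] [IsAlgClosed k]

theorem geomReduced (F : Type u) [Field F] [Algebra k F] : Algebra.IsGeometricallyReduced k F := by
  rw [Algebra.isGeometricallyReduced_field_iff]
  haveI : IsDomain (AlgebraicClosure k ⊗[k] F) := GrpSchField.isDomain_tensorProduct
  infer_instance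

section integral

variable (A : Type u) [CommRing A] [IsDomain A] [HenselianLocalRing A] [Algebra k A]
  (hA : Function.Bijective ((residue A).comp (algebraMap k A)))

/-- The normalization. -/
abbrev N : Type u := integralClosure A (FractionRing A)

include hA

theorem exists_scalar [IsLocalRing (N A)] (x : N A) :
    ∃ c : k, x - algebraMap A (N A) (algebraMap k A c) ∈ maximalIdeal (N A) := by
  haveI : Algebra.IsIntegral A (N A) := integralClosure.AlgebraIsIntegral
  let e := RingEquiv.ofBijective _ hA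
  let c : A →+* k := e.symm.toRingHom.comp (residue A)
  let q := residue (N A)
  have hmax : (maximalIdeal (N A)).comap (algebraMap A (N A)) = maximalIdeal A :=
    eq_maximalIdeal (Ideal.isMaximal_comap_of_isIntegral_of_isMaximal _)
  have hc : ∀ a, q (algebraMap A (N A) a) = q (algebraMap A (N A) (algebraMap k A (c a))) := fun a => by
    rw [← sub_eq_zero, ← map_sub, ← map_sub, residue_eq_zero_iff]
    refine hmax.ge (show a - algebraMap k A (c a) ∈ maximalIdeal A from ?_)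
    rw [← residue_eq_zero_iff, map_sub, show residue A (algebraMap k A (c a)) = e (e.symm (residue A a)) from rfl,
      e.apply_symm_apply, sub_self]
  letI : Algebra k (ResidueField (N A)) := (q.comp ((algebraMap A (N A)).comp (algebraMap k A))).toAlgebra
  have hint : IsIntegral k (q x) :=
    IsIntegral.map_of_comp_eq (R := A) c q (RingHom.ext fun a => (hc a).symm) (Algebra.IsIntegral.isIntegral x)
  obtain ⟨d, hd⟩ : q x ∈ (algebraMap k (ResidueField (N A))).range :=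
    minpoly.degree_eq_one_iff.mp (IsAlgClosed.degree_eq_one_of_irreducible k (minpoly.irreducible hint))
  refine ⟨d, ?_⟩
  rw [← residue_eq_zero_iff, map_sub, sub_eq_zero]
  exact hd.symm

end integral

section abstract

variable {A₁ B₁ N₁ N₂ : Type u} [CommRing A₁] [CommRing B₁] [CommRing N₁] [CommRing N₂] [Algebra k A₁] [Algebra k B₁]
  [Algebra k N₁] [Algebra k N₂] (iA : A₁ →ₐ[k] N₁) (iB : B₁ →ₐ[k] N₂)

theorem isIntegral_map (h₁ : iA.toRingHom.IsIntegral) (h₂ : iB.toRingHom.IsIntegral) :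
    (Algebra.TensorProduct.map iA iB).toRingHom.IsIntegral := by
  intro x
  induction x with
  | zero => exact RingHom.isIntegralElem_zero _
  | add a b ha hb => exact ha.add _ hb
  | tmul a b =>
    rw [show a ⊗ₜ[k] b = (a ⊗ₜ 1) * (1 ⊗ₜ b) by simp]
    refine RingHom.IsIntegralElem.mul _ ?_ ?_
    · letI := iA.toRingHom.toAlgebra
      letI := (Algebra.TensorProduct.map iA iB).toRingHom.toAlgebra
      exact IsIntegral.map_of_comp_eq (R := A₁) (T := A₁ ⊗[k] B₁)
        (Algebra.TensorProduct.includeLeftRingHom : A₁ →+* A₁ ⊗[k] B₁)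
        (Algebra.TensorProduct.includeLeftRingHom : N₁ →+* N₁ ⊗[k] N₂)
        (RingHom.ext fun r => (congrArg (fun t => iA r ⊗ₜ[k] t) (map_one iB))) (h₁ a)
    · letI := iB.toRingHom.toAlgebra
      letI := (Algebra.TensorProduct.map iA iB).toRingHom.toAlgebra
      exact IsIntegral.map_of_comp_eq (R := B₁) (T := A₁ ⊗[k] B₁)
        (Algebra.TensorProduct.includeRight : B₁ →ₐ[k] A₁ ⊗[k] B₁).toRingHom
        (Algebra.TensorProduct.includeRight : N₂ →ₐ[k] N₁ ⊗[k] N₂).toRingHom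
        (RingHom.ext fun r => (congrArg (fun t => t ⊗ₜ[k] iB r) (map_one iA))) (h₂ b)

theorem birational_map [IsDomain (N₁ ⊗[k] N₂)] [Nontrivial N₁] [Nontrivial N₂]
    (h₁ : ∀ x, ∃ a s, iA s ≠ 0 ∧ x * iA s = iA a) (h₂ : ∀ x, ∃ a s, iB s ≠ 0 ∧ x * iB s = iB a) :
    ∀ t, ∃ a b, Algebra.TensorProduct.map iA iB b ≠ 0 ∧
      t * Algebra.TensorProduct.map iA iB b = Algebra.TensorProduct.map iA iB a := by
  intro t
  induction t with
  | zero => exact ⟨0, 1, by simp, by simp⟩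
  | add t₁ t₂ g₁ g₂ =>
    obtain ⟨a₁, b₁, n₁, e₁⟩ := g₁
    obtain ⟨a₂, b₂, n₂, e₂⟩ := g₂
    exact ⟨a₁ * b₂ + a₂ * b₁, b₁ * b₂, by rw [map_mul]; exact mul_ne_zero n₁ n₂, by
      rw [map_mul, map_add, map_mul, map_mul, ← e₁, ← e₂]; ring⟩
  | tmul x y =>
    obtain ⟨a, s, hs, ha⟩ := h₁ x
    obtain ⟨b, s', hs', hb⟩ := h₂ y
    refine ⟨a ⊗ₜ b, s ⊗ₜ s', ?_, by rw [Algebra.TensorProduct.map_tmul, Algebra.TensorProduct.map_tmul,
      Algebra.TensorProduct.tmul_mul_tmul, ha, hb]⟩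
    rw [Algebra.TensorProduct.map_tmul, show iA s ⊗ₜ[k] iB s' = (iA s ⊗ₜ[k] 1) * (1 ⊗ₜ iB s') by simp]
    exact mul_ne_zero
      ((map_ne_zero_iff (Algebra.TensorProduct.includeLeft : N₁ →ₐ[k] N₁ ⊗[k] N₂)
        (Algebra.TensorProduct.includeLeft_injective (algebraMap k N₂).injective)).2 hs)
      ((map_ne_zero_iff (Algebra.TensorProduct.includeRight : N₂ →ₐ[k] N₁ ⊗[k] N₂)
        (Algebra.TensorProduct.includeRight_injective (algebraMap k N₁).injective)).2 hs')

theorem scalar_map {M₁ : Ideal N₁} {M₂ : Ideal N₂} (h₁ : ∀ x, ∃ c : k, x - algebraMap k N₁ c ∈ M₁)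
    (h₂ : ∀ x, ∃ c : k, x - algebraMap k N₂ c ∈ M₂) (x : N₁ ⊗[k] N₂) :
    ∃ c : k, ∀ Q : Ideal (N₁ ⊗[k] N₂),
      M₁ ≤ Q.comap (Algebra.TensorProduct.includeLeft : N₁ →ₐ[k] N₁ ⊗[k] N₂) →
      M₂ ≤ Q.comap (Algebra.TensorProduct.includeRight : N₂ →ₐ[k] N₁ ⊗[k] N₂) →
      x - algebraMap k (N₁ ⊗[k] N₂) c ∈ Q := by
  induction x with
  | zero => exact ⟨0, fun Q _ _ => by simp⟩
  | add a b ha hb =>
    obtain ⟨c, hc⟩ := ha
    obtain ⟨d, hd⟩ := hb
    exact ⟨c + d, fun Q h h' => by rw [map_add, add_sub_add_comm]; exact Q.add_mem (hc Q h h') (hd Q h h')⟩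
  | tmul a b =>
    obtain ⟨c, hc⟩ := h₁ a
    obtain ⟨d, hd⟩ := h₂ b
    refine ⟨c * d, fun Q hQA hQB => ?_⟩
    let iL : N₁ →ₐ[k] N₁ ⊗[k] N₂ := Algebra.TensorProduct.includeLeft
    let iR : N₂ →ₐ[k] N₁ ⊗[k] N₂ := Algebra.TensorProduct.includeRight
    have h3 := Q.mul_mem_right (iR b) (show iL (a - algebraMap k _ c) ∈ Q from hQA hc)
    have h4 := Q.mul_mem_left (algebraMap k _ c) (show iR (b - algebraMap k _ d) ∈ Q from hQB hd)
    have e : a ⊗ₜ[k] b = iL a * iR b := by simp [iL, iR]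
    rw [map_sub, AlgHom.commutes] at h3 h4
    convert Q.add_mem h3 h4 using 1
    rw [e, map_mul]
    ring

end abstract

section unibranch

variable {A B : Type u} [CommRing A] [CommRing B] [HenselianLocalRing A] [HenselianLocalRing B]
  [Algebra k A] [Algebra k B]
  (hA : Function.Bijective ((residue A).comp (algebraMap k A)))
  (hB : Function.Bijective ((residue B).comp (algebraMap k B)))

theorem bijective_quot (p : Ideal A) [p.IsPrime] [IsLocalRing (A ⧸ p)]
    (hA : Function.Bijective ((residue A).comp (algebraMap k A))) :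
    Function.Bijective ((residue (A ⧸ p)).comp (algebraMap k (A ⧸ p))) := by
  refine ⟨RingHom.injective _, fun x => ?_⟩
  obtain ⟨x, rfl⟩ := residue_surjective x
  obtain ⟨a, rfl⟩ := Ideal.Quotient.mk_surjective x
  obtain ⟨c, hc⟩ := hA.2 (residue A a)
  refine ⟨c, ?_⟩
  haveI : IsLocalHom (Ideal.Quotient.mk p) := IsLocalHom.of_surjective _ Ideal.Quotient.mk_surjective
  exact congrArg (ResidueField.map (Ideal.Quotient.mk p)) hc

theorem henselian_quot (p : Ideal A) [p.IsPrime] : HenselianLocalRing (A ⧸ p) := by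
  haveI : IsLocalRing (A ⧸ p) := IsLocalRing.of_surjective' _ Ideal.Quotient.mk_surjective
  haveI : IsLocalHom (algebraMap A (A ⧸ p)) := IsLocalHom.of_surjective _ Ideal.Quotient.mk_surjective
  haveI : Algebra.IsIntegral A (A ⧸ p) :=
    Algebra.IsIntegral.of_surjective (Algebra.ofId A (A ⧸ p)) Ideal.Quotient.mk_surjective
  exact GrothLib.Hensel.henselianLocalRing_of_isIntegral_isLocalHom (R := A)

/-- The map to the product of quotients. -/
abbrev ψ (p : Ideal A) (q : Ideal B) : A ⊗[k] B →ₐ[k] (A ⧸ p) ⊗[k] (B ⧸ q) :=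
  Algebra.TensorProduct.map (Ideal.Quotient.mkₐ k p) (Ideal.Quotient.mkₐ k q)

/-- The ideal of the corner. -/
abbrev J0 (p : Ideal A) (q : Ideal B) : Ideal (A ⊗[k] B) := RingHom.ker (ψ (k := k) p q)

theorem J0_eq (p : Ideal A) (q : Ideal B) : J0 (k := k) p q =
    p.map (Algebra.TensorProduct.includeLeft : A →ₐ[k] A ⊗[k] B) ⊔
      q.map (Algebra.TensorProduct.includeRight : B →ₐ[k] A ⊗[k] B) := by
  have h := Algebra.TensorProduct.map_ker (Ideal.Quotient.mkₐ k p) (Ideal.Quotient.mkₐ k q)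
    Ideal.Quotient.mk_surjective Ideal.Quotient.mk_surjective
  rw [show RingHom.ker (Ideal.Quotient.mkₐ k p) = p from Ideal.mk_ker,
    show RingHom.ker (Ideal.Quotient.mkₐ k q) = q from Ideal.mk_ker] at h
  exact h

theorem ψ_surjective (p : Ideal A) (q : Ideal B) : Function.Surjective (ψ (k := k) p q) :=
  TensorProduct.map_surjective Ideal.Quotient.mk_surjective Ideal.Quotient.mk_surjective

include hA hB

theorem isGeomUnibranch (p : Ideal A) [p.IsPrime] (q : Ideal B) [q.IsPrime]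
    (𝔪 : Ideal (A ⊗[k] B)) [𝔪.IsPrime]
    (h𝔪 : 𝔪 = (maximalIdeal A).map (Algebra.TensorProduct.includeLeft : A →ₐ[k] A ⊗[k] B) ⊔
      (maximalIdeal B).map (Algebra.TensorProduct.includeRight : B →ₐ[k] A ⊗[k] B))
    (qb : Ideal ((A ⊗[k] B) ⧸ J0 (k := k) p q)) [qb.IsPrime]
    (hqb : qb.comap (Ideal.Quotient.mk (J0 (k := k) p q)) = 𝔪) :
    CAlg2.IsGeomUnibranch (Localization.AtPrime qb) := by
  classical
  haveI : IsLocalRing (A ⧸ p) := IsLocalRing.of_surjective' _ Ideal.Quotient.mk_surjective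
  haveI : IsLocalRing (B ⧸ q) := IsLocalRing.of_surjective' _ Ideal.Quotient.mk_surjective
  haveI := henselian_quot p
  haveI := henselian_quot q
  have hA' := bijective_quot p hA
  have hB' := bijective_quot q hB
  haveI : IsLocalRing (N (A ⧸ p)) := Olivier.isLocalRing_integralClosure _
  haveI : IsLocalRing (N (B ⧸ q)) := Olivier.isLocalRing_integralClosure _
  haveI : IsIntegrallyClosed (N (A ⧸ p)) := integralClosure.isIntegrallyClosedOfFiniteExtension (FractionRing (A ⧸ p))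
  haveI : IsIntegrallyClosed (N (B ⧸ q)) := integralClosure.isIntegrallyClosedOfFiniteExtension (FractionRing (B ⧸ q))
  haveI := geomReduced (k := k) (FractionRing (N (A ⧸ p)))
  haveI := geomReduced (k := k) (FractionRing (N (B ⧸ q)))
  haveI : IsDomain (N (A ⧸ p) ⊗[k] N (B ⧸ q)) := GrpSchField.isDomain_tensorProduct
  have hnorm : EGA4.IsNormalRing (N (A ⧸ p) ⊗[k] N (B ⧸ q)) := Groth.Agent.S2691.result k _ _
  haveI : IsIntegrallyClosed (N (A ⧸ p) ⊗[k] N (B ⧸ q)) := IsIntegrallyClosed.of_localization_maximal fun P _ hP => (hnorm P).2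
  haveI : IsDomain ((A ⧸ p) ⊗[k] (B ⧸ q)) := GrpSchField.isDomain_tensorProduct
  let iA : (A ⧸ p) →ₐ[k] N (A ⧸ p) := IsScalarTower.toAlgHom k _ _
  let iB : (B ⧸ q) →ₐ[k] N (B ⧸ q) := IsScalarTower.toAlgHom k _ _
  let i : (A ⧸ p) ⊗[k] (B ⧸ q) →ₐ[k] (N (A ⧸ p) ⊗[k] N (B ⧸ q)) := Algebra.TensorProduct.map iA iB
  have hiA : Function.Injective iA := FaithfulSMul.algebraMap_injective (A ⧸ p) (N (A ⧸ p))
  have hiB : Function.Injective iB := FaithfulSMul.algebraMap_injective (B ⧸ q) (N (B ⧸ q))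
  have hi : Function.Injective i := by
    haveI : Module.Flat k (N (A ⧸ p)) := Module.Flat.of_free
    haveI : Module.Flat k (B ⧸ q) := Module.Flat.of_free
    show Function.Injective (TensorProduct.map iA.toLinearMap iB.toLinearMap)
    exact TensorProduct.map_injective_of_flat_flat _ _ hiA hiB
  let φ : (A ⊗[k] B) ⧸ J0 (k := k) p q →+* (N (A ⧸ p) ⊗[k] N (B ⧸ q)) :=
    i.toRingHom.comp (RingHom.quotientKerEquivOfSurjective (f := (ψ (k := k) p q).toRingHom) (ψ_surjective p q)).toRingHom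
  have hφi : Function.Injective φ := hi.comp (RingEquiv.injective _)
  haveI : IsDomain ((A ⊗[k] B) ⧸ J0 (k := k) p q) := hφi.isDomain φ
  have hφ : ∀ x, φ (Ideal.Quotient.mk _ x) = i (ψ (k := k) p q x) := fun x => rfl
  have hker : RingHom.ker φ = nilradical _ := by
    rw [nilradical_eq_zero]
    exact (RingHom.injective_iff_ker_eq_bot φ).1 hφi
  have hint : RingHom.IsIntegral (R := (A ⊗[k] B) ⧸ J0 (k := k) p q) (A := N (A ⧸ p) ⊗[k] N (B ⧸ q)) φ := RingHom.IsIntegral.trans _ _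
    (RingHom.isIntegral_of_surjective _
      (RingHom.quotientKerEquivOfSurjective (f := (ψ (k := k) p q).toRingHom) (ψ_surjective p q)).surjective)
    (isIntegral_map iA iB (Algebra.IsIntegral.isIntegral (R := A ⧸ p) (A := N (A ⧸ p)))
      (Algebra.IsIntegral.isIntegral (R := B ⧸ q) (A := N (B ⧸ q))))
  have hfrac : ∀ (D : Type u) [CommRing D] [IsDomain D] (x : N D), ∃ a s : D, algebraMap D (N D) s ≠ 0 ∧
      x * algebraMap D (N D) s = algebraMap D (N D) a := fun D _ _ x => by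
    obtain ⟨⟨a, s⟩, ha⟩ := IsLocalization.surj (nonZeroDivisors D) (x : FractionRing D)
    exact ⟨a, s, (map_ne_zero_iff _ (FaithfulSMul.algebraMap_injective D (N D))).2 (nonZeroDivisors.coe_ne_zero s),
      Subtype.ext ha⟩
  have hbir : ∀ t, ∃ a b, φ b ≠ 0 ∧ t * φ b = φ a := fun t => by
    obtain ⟨a, b, hb, he⟩ := birational_map iA iB (hfrac (A ⧸ p)) (hfrac (B ⧸ q)) t
    obtain ⟨a', rfl⟩ := ψ_surjective (k := k) p q a
    obtain ⟨b', rfl⟩ := ψ_surjective (k := k) p q b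
    exact ⟨Ideal.Quotient.mk _ a', Ideal.Quotient.mk _ b', hb, he⟩
  rw [GeomUnib.isGeomUnibranch_localization_iff (B := (A ⊗[k] B) ⧸ J0 (k := k) p q) (T' := N (A ⧸ p) ⊗[k] N (B ⧸ q)) φ hker hint hbir qb]
  have hin : ∀ Q : Ideal (N (A ⧸ p) ⊗[k] N (B ⧸ q)), Q.IsPrime → Q.comap φ = qb →
      maximalIdeal (N (A ⧸ p)) ≤ Q.comap (Algebra.TensorProduct.includeLeft : N (A ⧸ p) →ₐ[k] (N (A ⧸ p) ⊗[k] N (B ⧸ q))) ∧
      maximalIdeal (N (B ⧸ q)) ≤ Q.comap (Algebra.TensorProduct.includeRight : N (B ⧸ q) →ₐ[k] (N (A ⧸ p) ⊗[k] N (B ⧸ q))) := by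
    intro Q hQ hQq
    have hmem : ∀ z ∈ 𝔪, i (ψ (k := k) p q z) ∈ Q := fun z hz => by
      rw [← hφ]
      exact hQq.ge (hqb.ge hz)
    have hQA : maximalIdeal (N (A ⧸ p)) ≤ Q.comap (Algebra.TensorProduct.includeLeft : N (A ⧸ p) →ₐ[k] (N (A ⧸ p) ⊗[k] N (B ⧸ q))) := by
      haveI : (Q.comap (Algebra.TensorProduct.includeLeft : N (A ⧸ p) →ₐ[k] (N (A ⧸ p) ⊗[k] N (B ⧸ q)))).IsPrime := hQ.comap _
      refine (eq_maximalIdeal (Ideal.isMaximal_of_isIntegral_of_isMaximal_comap (R := A ⧸ p) _ ?_)).ge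
      convert maximalIdeal.isMaximal (A ⧸ p)
      refine le_antisymm (le_maximalIdeal (Ideal.comap_ne_top _ (Ideal.IsPrime.ne_top inferInstance))) fun a ha => ?_
      obtain ⟨a, rfl⟩ := Ideal.Quotient.mk_surjective a
      have ha' : a ∈ maximalIdeal A := fun hu => ha (hu.map _)
      show iA (Ideal.Quotient.mk p a) ⊗ₜ[k] 1 ∈ Q
      rw [← map_one iB]
      exact hmem (a ⊗ₜ 1) (by rw [h𝔪]; exact Ideal.mem_sup_left (Ideal.mem_map_of_mem _ ha'))
    have hQB : maximalIdeal (N (B ⧸ q)) ≤ Q.comap (Algebra.TensorProduct.includeRight : N (B ⧸ q) →ₐ[k] (N (A ⧸ p) ⊗[k] N (B ⧸ q))) := by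
      haveI : (Q.comap (Algebra.TensorProduct.includeRight : N (B ⧸ q) →ₐ[k] (N (A ⧸ p) ⊗[k] N (B ⧸ q)))).IsPrime := hQ.comap _
      refine (eq_maximalIdeal (Ideal.isMaximal_of_isIntegral_of_isMaximal_comap (R := B ⧸ q) _ ?_)).ge
      convert maximalIdeal.isMaximal (B ⧸ q)
      refine le_antisymm (le_maximalIdeal (Ideal.comap_ne_top _ (Ideal.IsPrime.ne_top inferInstance))) fun b hb => ?_
      obtain ⟨b, rfl⟩ := Ideal.Quotient.mk_surjective b
      have hb' : b ∈ maximalIdeal B := fun hu => hb (hu.map _)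
      show (1 : N (A ⧸ p)) ⊗ₜ[k] iB (Ideal.Quotient.mk q b) ∈ Q
      rw [← map_one iA]
      exact hmem (1 ⊗ₜ b) (by rw [h𝔪]; exact Ideal.mem_sup_right (Ideal.mem_map_of_mem _ hb'))
    exact ⟨hQA, hQB⟩
  have hsA : ∀ x : N (A ⧸ p), ∃ c : k, x - algebraMap k (N (A ⧸ p)) c ∈ maximalIdeal (N (A ⧸ p)) := fun x => by
    obtain ⟨c, hc⟩ := exists_scalar (A ⧸ p) hA' x
    exact ⟨c, by rwa [IsScalarTower.algebraMap_apply k (A ⧸ p) (N (A ⧸ p))]⟩
  have hsB : ∀ x : N (B ⧸ q), ∃ c : k, x - algebraMap k (N (B ⧸ q)) c ∈ maximalIdeal (N (B ⧸ q)) := fun x => by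
    obtain ⟨c, hc⟩ := exists_scalar (B ⧸ q) hB' x
    exact ⟨c, by rwa [IsScalarTower.algebraMap_apply k (B ⧸ q) (N (B ⧸ q))]⟩
  have key : ∀ x : N (A ⧸ p) ⊗[k] N (B ⧸ q), ∃ c : k, ∀ Q : Ideal (N (A ⧸ p) ⊗[k] N (B ⧸ q)), Q.IsPrime →
      Q.comap φ = qb → x - algebraMap k (N (A ⧸ p) ⊗[k] N (B ⧸ q)) c ∈ Q := fun x => by
    obtain ⟨c, hc⟩ := scalar_map hsA hsB x
    exact ⟨c, fun Q hQ hQq => hc Q (hin Q hQ hQq).1 (hin Q hQ hQq).2⟩
  have hscal : ∀ c : k, φ (Ideal.Quotient.mk _ (algebraMap k (A ⊗[k] B) c)) = algebraMap k (N (A ⧸ p) ⊗[k] N (B ⧸ q)) c := fun c => by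
    rw [hφ, AlgHom.commutes, AlgHom.commutes]
  refine ⟨fun Q Q' hQ hQ' hQq hQ'q => ?_, fun Q hQ hQq x => ?_⟩
  · have hle : ∀ Q Q' : Ideal (N (A ⧸ p) ⊗[k] N (B ⧸ q)), Q.IsPrime → Q'.IsPrime → Q.comap φ = qb →
        Q'.comap φ = qb → Q ≤ Q' :=
      fun Q Q' hQ hQ' hQq hQ'q x hx => by
        obtain ⟨c, hc⟩ := key x
        have h1 := hc Q hQ hQq
        have h2 := hc Q' hQ' hQ'q
        by_cases hc0 : c = 0
        · rw [hc0, map_zero] at h2
          exact (sub_zero x) ▸ h2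
        · refine absurd (Ideal.eq_top_of_isUnit_mem Q ?_
            ((isUnit_iff_ne_zero.2 hc0).map (algebraMap k (N (A ⧸ p) ⊗[k] N (B ⧸ q))))) hQ.ne_top
          have h3 := Q.add_mem hx (Q.mul_mem_left (-1) h1)
          convert h3 using 1
          ring
    exact le_antisymm (hle Q Q' hQ hQ' hQq hQ'q) (hle Q' Q hQ' hQ hQ'q hQq)
  · obtain ⟨c, hc⟩ := key x
    refine ⟨0, Ideal.Quotient.mk _ (algebraMap k (A ⊗[k] B) c), 1, fun h => qb.ne_top_iff_one.1 (Ideal.IsPrime.ne_top ‹_›) h, ?_⟩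
    rw [map_one, one_mul, pow_zero, pow_one, hscal]
    exact hc Q hQ hQq

theorem bijOn (𝔪 : Ideal (A ⊗[k] B)) [𝔪.IsPrime]
    (h𝔪 : 𝔪 = (maximalIdeal A).map (Algebra.TensorProduct.includeLeft : A →ₐ[k] A ⊗[k] B) ⊔
      (maximalIdeal B).map (Algebra.TensorProduct.includeRight : B →ₐ[k] A ⊗[k] B))
    (C : Type u) [CommRing C] [IsLocalRing C] [Algebra (Localization.AtPrime 𝔪) C]
    [IsLocalHom (algebraMap (Localization.AtPrime 𝔪) C)]
    [_root_.Hensel.IsStrictHenselization (Localization.AtPrime 𝔪) C] :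
    Set.BijOn
      (fun 𝔯 : Ideal C =>
        (𝔯.comap ((algebraMap (Localization.AtPrime 𝔪) C).comp
            ((algebraMap (A ⊗[k] B) (Localization.AtPrime 𝔪)).comp
              (Algebra.TensorProduct.includeLeft : A →ₐ[k] A ⊗[k] B).toRingHom)),
          𝔯.comap ((algebraMap (Localization.AtPrime 𝔪) C).comp
            ((algebraMap (A ⊗[k] B) (Localization.AtPrime 𝔪)).comp
              (Algebra.TensorProduct.includeRight : B →ₐ[k] A ⊗[k] B).toRingHom))))
      (minimalPrimes C) (minimalPrimes A ×ˢ minimalPrimes B) := by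
  classical
  let L := Localization.AtPrime 𝔪
  let jA : A →+* C := (algebraMap L C).comp
    ((algebraMap (A ⊗[k] B) L).comp (Algebra.TensorProduct.includeLeft : A →ₐ[k] A ⊗[k] B).toRingHom)
  let jB : B →+* C := (algebraMap L C).comp
    ((algebraMap (A ⊗[k] B) L).comp (Algebra.TensorProduct.includeRight : B →ₐ[k] A ⊗[k] B).toRingHom)
  haveI : Module.Flat L C := GrothLib.Hensel.IsStrictHenselization.flat
  haveI : Module.FaithfullyFlat L C := Module.FaithfullyFlat.of_flat_of_isLocalHom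
  have hfA : jA.Flat := RingHom.Flat.comp
    (RingHom.Flat.comp (RingHom.flat_algebraMap_iff.2 (inferInstanceAs (Module.Flat A (A ⊗[k] B))))
      (RingHom.flat_algebraMap_iff.2 (inferInstanceAs (Module.Flat (A ⊗[k] B) L))))
    (RingHom.flat_algebraMap_iff.2 inferInstance)
  have hright : (Algebra.TensorProduct.includeRight : B →ₐ[k] A ⊗[k] B).toRingHom.Flat := by
    have h1 : (Algebra.TensorProduct.includeLeftRingHom : B →+* B ⊗[k] A).Flat :=
      RingHom.flat_algebraMap_iff.2 (inferInstanceAs (Module.Flat B (B ⊗[k] A)))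
    have h2 := h1.comp (RingHom.Flat.of_bijective (f := (Algebra.TensorProduct.comm k B A).toRingHom)
      (Algebra.TensorProduct.comm k B A).bijective)
    convert h2 using 1
    exact RingHom.ext fun b => rfl
  have hfB : jB.Flat := RingHom.Flat.comp
    (RingHom.Flat.comp hright (RingHom.flat_algebraMap_iff.2 (inferInstanceAs (Module.Flat (A ⊗[k] B) L))))
    (RingHom.flat_algebraMap_iff.2 inferInstance)
  have hmin : ∀ {R : Type u} [CommRing R] (j : R →+* C), j.Flat → ∀ r ∈ minimalPrimes C,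
      r.comap j ∈ minimalPrimes R := by
    intro R _ j hj r hr
    letI := j.toAlgebra
    haveI : Module.Flat R C := hj
    haveI : r.IsPrime := hr.1.1
    refine ⟨⟨inferInstance, bot_le⟩, fun p' hp' hle => ?_⟩
    haveI := hp'.1
    haveI : r.LiesOver (r.comap j) := ⟨rfl⟩
    obtain ⟨P, hP, hPp, hPo⟩ := Ideal.exists_ideal_le_liesOver_of_le (p := p') (q := r.comap j) r hle
    have : r ≤ P := hr.2 ⟨hPp, bot_le⟩ hP
    rw [← le_antisymm hP this] at *
    exact le_of_eq hPo.over.symm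
  have hJle : ∀ (p : Ideal A) (q : Ideal B) [p.IsPrime] [q.IsPrime], J0 (k := k) p q ≤ 𝔪 := fun p q _ _ => by
    rw [J0_eq, h𝔪]
    exact sup_le_sup (Ideal.map_mono (le_maximalIdeal (Ideal.IsPrime.ne_top inferInstance)))
      (Ideal.map_mono (le_maximalIdeal (Ideal.IsPrime.ne_top inferInstance)))
  let JC : Ideal A → Ideal B → Ideal C := fun p q =>
    ((J0 (k := k) p q).map (algebraMap (A ⊗[k] B) L)).map (algebraMap L C)
  have hprime : ∀ (p : Ideal A) (q : Ideal B) [p.IsPrime] [q.IsPrime], (JC p q).IsPrime ∧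
      (JC p q).comap jA = p ∧ (JC p q).comap jB = q := by
    intro p q _ _
    haveI : IsDomain ((A ⧸ p) ⊗[k] (B ⧸ q)) := GrpSchField.isDomain_tensorProduct
    haveI hJp : (J0 (k := k) p q).IsPrime := RingHom.ker_isPrime _
    let J0' := J0 (k := k) p q
    let qb : Ideal ((A ⊗[k] B) ⧸ J0') := 𝔪.map (Ideal.Quotient.mk J0')
    haveI : qb.IsPrime := Ideal.map_isPrime_of_surjective Ideal.Quotient.mk_surjective (by
      rw [Ideal.mk_ker]; exact hJle p q)
    have hqb : qb.comap (Ideal.Quotient.mk J0') = 𝔪 := by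
      rw [Ideal.comap_map_of_surjective _ Ideal.Quotient.mk_surjective, ← RingHom.ker_eq_comap_bot,
        Ideal.mk_ker, sup_eq_left]
      exact hJle p q
    have hg := isGeomUnibranch hA hB p q 𝔪 h𝔪 qb hqb
    let J : Ideal L := J0'.map (algebraMap (A ⊗[k] B) L)
    have hdis : Disjoint (𝔪.primeCompl : Set (A ⊗[k] B)) (J0' : Set (A ⊗[k] B)) :=
      Set.disjoint_left.2 fun x hx hx' => hx (hJle p q hx')
    haveI : J.IsPrime := IsLocalization.isPrime_of_isPrime_disjoint 𝔪.primeCompl L J0' hJp hdis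
    have hJ0 : J.comap (algebraMap (A ⊗[k] B) L) = J0' :=
      IsLocalization.under_map_of_isPrime_disjoint 𝔪.primeCompl L hJp hdis
    haveI : IsLocalRing (L ⧸ J) := IsLocalRing.of_surjective' _ Ideal.Quotient.mk_surjective
    have hloc : IsLocalization.AtPrime (L ⧸ J) qb := by
      have h0 : IsLocalization (Algebra.algebraMapSubmonoid ((A ⊗[k] B) ⧸ J0') 𝔪.primeCompl) (L ⧸ J) := inferInstance
      have hs : Algebra.algebraMapSubmonoid ((A ⊗[k] B) ⧸ J0') 𝔪.primeCompl = qb.primeCompl := by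
        ext x
        obtain ⟨r, rfl⟩ := Ideal.Quotient.mk_surjective x
        refine ⟨fun ⟨s, hs, hsr⟩ h ↦ hs (hqb.le (show Ideal.Quotient.mk J0' s ∈ qb from ?_)),
          fun h ↦ ⟨r, fun hr ↦ h (Ideal.mem_map_of_mem _ hr), rfl⟩⟩
        exact (show Ideal.Quotient.mk J0' s = Ideal.Quotient.mk J0' r from hsr).symm ▸ h
      rw [hs] at h0
      exact h0
    let ε : Localization.AtPrime qb ≃+* L ⧸ J :=
      (IsLocalization.algEquiv qb.primeCompl (Localization.AtPrime qb) (L ⧸ J)).toRingEquiv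
    have hdom := GeomUnib.isDomain_quotient_strictHenselization (A := L) (S := C) J (Ideal.IsPrime.ne_top inferInstance)
      (GrothLib.BrnchNhd.isGeomUnibranch_of_ringEquiv ε hg)
    have hc : (JC p q).comap ((algebraMap L C).comp (algebraMap (A ⊗[k] B) L)) = J0' := by
      rw [← Ideal.comap_comap]
      show (((J.map (algebraMap L C)).comap (algebraMap L C))).comap _ = _
      rw [Ideal.comap_map_eq_self_of_faithfullyFlat, hJ0]
    refine ⟨(Ideal.Quotient.isDomain_iff_prime _).1 hdom, ?_, ?_⟩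
    · rw [show jA = ((algebraMap L C).comp (algebraMap (A ⊗[k] B) L)).comp
        (Algebra.TensorProduct.includeLeft : A →ₐ[k] A ⊗[k] B).toRingHom from rfl, ← Ideal.comap_comap, hc]
      ext a
      show Ideal.Quotient.mk p a ⊗ₜ[k] Ideal.Quotient.mk q 1 = 0 ↔ a ∈ p
      rw [map_one, ← Ideal.Quotient.eq_zero_iff_mem]
      exact map_eq_zero_iff (Algebra.TensorProduct.includeLeft : (A ⧸ p) →ₐ[k] (A ⧸ p) ⊗[k] (B ⧸ q))
        (Algebra.TensorProduct.includeLeft_injective (algebraMap k (B ⧸ q)).injective)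
    · rw [show jB = ((algebraMap L C).comp (algebraMap (A ⊗[k] B) L)).comp
        (Algebra.TensorProduct.includeRight : B →ₐ[k] A ⊗[k] B).toRingHom from rfl, ← Ideal.comap_comap, hc]
      ext b
      show Ideal.Quotient.mk p 1 ⊗ₜ[k] Ideal.Quotient.mk q b = 0 ↔ b ∈ q
      rw [map_one, ← Ideal.Quotient.eq_zero_iff_mem]
      exact map_eq_zero_iff (Algebra.TensorProduct.includeRight : (B ⧸ q) →ₐ[k] (A ⧸ p) ⊗[k] (B ⧸ q))
        (Algebra.TensorProduct.includeRight_injective (algebraMap k (A ⧸ p)).injective)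
  have hle : ∀ (r : Ideal C), JC (r.comap jA) (r.comap jB) ≤ r := fun r => by
    refine Ideal.map_le_iff_le_comap.2 (Ideal.map_le_iff_le_comap.2 ?_)
    rw [J0_eq]
    exact sup_le (Ideal.map_le_iff_le_comap.2 fun a ha => ha) (Ideal.map_le_iff_le_comap.2 fun b hb => hb)
  refine ⟨fun r hr => ⟨hmin jA hfA r hr, hmin jB hfB r hr⟩, fun r hr r' hr' e => ?_, fun pq hpq => ?_⟩
  · obtain ⟨e1, e2⟩ := Prod.mk.inj e
    haveI := hr.1.1
    haveI := hr'.1.1
    have hp := (hprime (r.comap jA) (r.comap jB)).1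
    have h1 := hr.2 ⟨hp, bot_le⟩ (hle r)
    have h2 := hle r'
    rw [show r'.comap jA = r.comap jA from e1.symm, show r'.comap jB = r.comap jB from e2.symm] at h2
    have h3 := hr'.2 ⟨hp, bot_le⟩ h2
    exact le_antisymm (h1.trans h2) (h3.trans (hle r))
  · obtain ⟨p, q⟩ := pq
    obtain ⟨hp, hq⟩ := hpq
    haveI : p.IsPrime := hp.1.1
    haveI : q.IsPrime := hq.1.1
    obtain ⟨h1, h2, h3⟩ := hprime p q
    refine ⟨JC p q, ⟨⟨h1, bot_le⟩, fun r hr hrle => ?_⟩, Prod.ext h2 h3⟩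
    haveI := hr.1
    have e1 : r.comap jA = p := le_antisymm ((Ideal.comap_mono hrle).trans h2.le)
      (hp.2 ⟨inferInstance, bot_le⟩ ((Ideal.comap_mono hrle).trans h2.le))
    have e2 : r.comap jB = q := le_antisymm ((Ideal.comap_mono hrle).trans h3.le)
      (hq.2 ⟨inferInstance, bot_le⟩ ((Ideal.comap_mono hrle).trans h3.le))
    have := hle r
    rwa [e1, e2] at this

end unibranch

end GrothLib.MinPrimeTensor4
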